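import Mathlib

/-!
# The spectrum of a localisation is the limit of the basic opens
-/

set_option autoImplicit false
set_option backward.isDefEq.respectTransparency false

noncomputable section

universe u

open CategoryTheory CategoryTheory.Limits AlgebraicGeometry Opposite

namespace Groth.Agent.GenLim

variable {R : Type u} [CommRing R] (M : Submonoid R)

/-- The index of a basic open. -/
structure Idx : Type u where
  /-- the element -/
  val : R
  mem : val ∈ M

instance : Preorder (Idx M) where
  le f g := f.val ∣ g.val
  le_refl f := dvd_refl _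
  le_trans _ _ _ h h' := h.trans h'

instance : Nonempty (Idx M) := ⟨⟨1, M.one_mem⟩⟩

instance : IsDirectedOrder (Idx M) :=
  ⟨fun f g => ⟨⟨f.val * g.val, M.mul_mem f.mem g.mem⟩, dvd_mul_right _ _, dvd_mul_left _ _⟩⟩

theorem isUnit_of_le {f g : Idx M} (h : f ≤ g) : IsUnit (algebraMap R (Localization.Away g.val) f.val) :=
  isUnit_of_dvd_unit (map_dvd _ h) (IsLocalization.Away.algebraMap_isUnit g.val)

/-- The system of localisations. -/
def ringF : Idx M ⥤ CommRingCat.{u} where
  obj f := CommRingCat.of (Localization.Away f.val)
  map {f _} h := CommRingCat.ofHom (IsLocalization.Away.lift f.val (isUnit_of_le M h.le))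
  map_id f := CommRingCat.hom_ext (IsLocalization.ringHom_ext (Submonoid.powers f.val) (by
    ext r
    simp))
  map_comp {f _ _} _ _ := CommRingCat.hom_ext (IsLocalization.ringHom_ext (Submonoid.powers f.val) (by
    ext r
    simp))

instance (f : Idx M) : Algebra R ((ringF M).obj f) := inferInstanceAs (Algebra R (Localization.Away f.val))

instance (f : Idx M) : IsLocalization (Submonoid.powers f.val) ((ringF M).obj f) :=
  inferInstanceAs (IsLocalization (Submonoid.powers f.val) (Localization.Away f.val))

variable (K : Type u) [CommRing K] [Algebra R K] [IsLocalization M K]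

/-- The localisation as a cocone. -/
def coconeF : Cocone (ringF M) where
  pt := CommRingCat.of K
  ι :=
    { app := fun f => CommRingCat.ofHom
        (IsLocalization.Away.lift f.val (g := algebraMap R K) (IsLocalization.map_units K ⟨f.val, f.mem⟩))
      naturality := fun f g h => CommRingCat.hom_ext (IsLocalization.ringHom_ext (Submonoid.powers f.val) (by
        ext r
        show IsLocalization.Away.lift g.val (g := algebraMap R K) (IsLocalization.map_units K ⟨g.val, g.mem⟩)
            (IsLocalization.Away.lift f.val (g := algebraMap R (Localization.Away g.val)) (isUnit_of_le M h.le)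
              (algebraMap R (Localization.Away f.val) r)) =
          IsLocalization.Away.lift f.val (g := algebraMap R K) (IsLocalization.map_units K ⟨f.val, f.mem⟩)
            (algebraMap R (Localization.Away f.val) r)
        rw [IsLocalization.Away.lift_eq, IsLocalization.Away.lift_eq, IsLocalization.Away.lift_eq])) }

instance : Algebra R (coconeF M K).pt := inferInstanceAs (Algebra R K)

instance : IsLocalization M (coconeF M K).pt := inferInstanceAs (IsLocalization M K)

/-- The localisation is the colimit. -/
def isColimitF : IsColimit (coconeF M K) := by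
  refine IsColimit.ofExistsUnique fun s => ?_
  let o : Idx M := ⟨1, M.one_mem⟩
  let ψ : R →+* s.pt := (s.ι.app o).hom.comp (algebraMap R (Localization.Away (1 : R)))
  have hψ : ∀ (f : Idx M), (s.ι.app f).hom.comp (algebraMap R (Localization.Away f.val)) = ψ := by
    intro f
    have h : o ≤ f := show (1 : R) ∣ f.val from one_dvd _
    have h1 := s.w (homOfLE h)
    refine RingHom.ext fun r => ?_
    show _ = (s.ι.app o).hom (algebraMap R (Localization.Away (1 : R)) r)
    rw [← h1]
    show _ = (s.ι.app f).hom ((ringF M).map (homOfLE h) (algebraMap R (Localization.Away o.val) r))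
    simp [ringF]
  have hu : ∀ y : M, IsUnit (ψ y) := fun y => by
    rw [← hψ ⟨y, y.2⟩]
    show IsUnit ((s.ι.app ⟨y, y.2⟩).hom (algebraMap R (Localization.Away (y : R)) y))
    exact IsUnit.map (s.ι.app ⟨y, y.2⟩).hom
      (IsLocalization.Away.algebraMap_isUnit (S := Localization.Away (y : R)) (y : R))
  refine ⟨CommRingCat.ofHom (IsLocalization.lift (S := K) hu), fun f => ?_, fun m hm => ?_⟩
  · refine CommRingCat.hom_ext (IsLocalization.ringHom_ext (Submonoid.powers f.val) (RingHom.ext fun r => ?_))
    show IsLocalization.lift hu (IsLocalization.Away.lift f.val (g := algebraMap R K) (IsLocalization.map_units K ⟨f.val, f.mem⟩) (algebraMap R (Localization.Away f.val) r)) = _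
    rw [IsLocalization.Away.lift_eq, IsLocalization.lift_eq]
    exact (DFunLike.congr_fun (hψ f) r).symm
  · refine CommRingCat.hom_ext (IsLocalization.ringHom_ext M (RingHom.ext fun r => ?_))
    show m.hom (algebraMap R K r) = IsLocalization.lift hu (algebraMap R K r)
    rw [IsLocalization.lift_eq]
    show _ = (s.ι.app o).hom (algebraMap R (Localization.Away (1 : R)) r)
    rw [← hm o]
    show _ = m.hom (IsLocalization.Away.lift o.val (g := algebraMap R K) (IsLocalization.map_units K ⟨o.val, o.mem⟩) (algebraMap R (Localization.Away o.val) r))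
    rw [IsLocalization.Away.lift_eq]

/-- The system of basic opens. -/
def sys : (Idx M)ᵒᵖ ⥤ Scheme.{u} := (ringF M).op ⋙ Scheme.Spec

/-- The cone over the system. -/
def cone : Cone (sys M) := Scheme.Spec.mapCone (coconeF M K).op

/-- The spectrum is the limit. -/
def isLimit : IsLimit (cone M K) := isLimitOfPreserves Scheme.Spec (isColimitF M K).op

instance (i : (Idx M)ᵒᵖ) : IsAffine ((sys M).obj i) := inferInstanceAs (IsAffine (Spec ((ringF M).obj i.unop)))

instance isAffineHom_map (i j : (Idx M)ᵒᵖ) (a : i ⟶ j) : IsAffineHom ((sys M).map a) := inferInstance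

/-- The open immersion of a stage. -/
def toSpec (i : (Idx M)ᵒᵖ) : (sys M).obj i ⟶ Spec (CommRingCat.of R) :=
  Spec.map (CommRingCat.ofHom (algebraMap R (Localization.Away i.unop.val)))

instance (i : (Idx M)ᵒᵖ) : IsOpenImmersion (toSpec M i) :=
  inferInstanceAs (IsOpenImmersion (Spec.map (CommRingCat.ofHom (algebraMap R (Localization.Away i.unop.val)))))

omit M in
theorem ofHom_comp_lift {P : Type u} [CommRing P] (g : R →+* P) (x : R) (h : IsUnit (g x)) :
    CommRingCat.ofHom (algebraMap R (Localization.Away x)) ≫ CommRingCat.ofHom (IsLocalization.Away.lift x h) =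
      CommRingCat.ofHom g := by
  rw [← CommRingCat.ofHom_comp, IsLocalization.Away.lift_comp]

theorem map_toSpec {i j : (Idx M)ᵒᵖ} (a : i ⟶ j) : (sys M).map a ≫ toSpec M j = toSpec M i :=
  (Spec.map_comp _ _).symm.trans (congrArg (fun φ => Spec.map φ)
    (ofHom_comp_lift (algebraMap R (Localization.Away i.unop.val)) j.unop.val (isUnit_of_le M a.unop.le)))

theorem π_toSpec (i : (Idx M)ᵒᵖ) : (cone M K).π.app i ≫ toSpec M i = Spec.map (CommRingCat.ofHom (algebraMap R K)) :=
  (Spec.map_comp _ _).symm.trans (congrArg (fun φ => Spec.map φ)
    (ofHom_comp_lift (algebraMap R K) i.unop.val (IsLocalization.map_units K ⟨i.unop.val, i.unop.mem⟩)))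

end Groth.Agent.GenLim
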